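import Cfsg.Prelude.Def_RootSubgroups
import Cfsg.Agent.Lib.Fix6.Tri
import Cfsg.Agent.Lib.Fix6.DefChar
import Cfsg.Agent.Lib.Gag.Red2
import Cfsg.Agent.Lib.Gag.Irr
import Cfsg.Agent.Lib.Stein.TypeA

/-!
# Large fixed spaces (S5720), X: the reduction to `SL₂(p)`
-/

set_option autoImplicit false
set_option linter.unusedSectionVars false
set_option linter.unusedVariables false

namespace CfsgLib.Fix6
open Module Subgroup Cfsg
open scoped MatrixGroups commutatorElement

universe u v

variable {K : Type*} {V : Type v} [Field K] [AddCommGroup V] [Module K V] [FiniteDimensional K V]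

theorem Small.ker_bot {L : Type*} [Group L] [Finite L] {ρ : Representation K L V} (h : Small ρ)
    {F : Type} [Field F] [Fintype F] (ho : Odd (Fintype.card F)) (h3 : 3 < Fintype.card F)
    (h9 : Fintype.card F ≠ 9) (π : L →* SL(2, F)) (hπ : Function.Surjective π)
    (hN : Odd (Nat.card π.ker)) (hs : Group.IsSolvable π.ker)
    (hm : ∀ M : Subgroup L, M.map π = ⊤ → M = ⊤) : π.ker = ⊥ := by
  have h2 := SL2.two_ne_zero_of_odd ho
  have hp := Classical.sl_fin_commutator_eq_top (F := F) 2 le_rfl fun _ => h3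
  have hL : commutator L = ⊤ := hm _ (by
    rw [map_commutator_eq, MonoidHom.range_eq_top.2 hπ]; exact hp)
  haveI := Fact.mk Nat.prime_three
  have h4 : ¬ 3 ∣ Nat.card π.ker := fun e => by
    obtain ⟨P⟩ : Nonempty (Sylow 3 π.ker) := inferInstance
    have h5 := congrArg (map π) P.normalizer_sup_eq_top
    rw [Subgroup.map_sup, map_ker_self, sup_bot_eq, map_top_of_surjective _ hπ] at h5
    have h6 := ZassFeit.commutator_le_centralizer_of_isCyclic
      (h.cyc3 (P.isPGroup'.map π.ker.subtype)) (hm _ h5).ge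
    obtain ⟨a, ha⟩ := exists_prime_orderOf_dvd_card' (G := (P : Subgroup π.ker)) 3
      (P.dvd_card_of_dvd_card e)
    exact FrobCompl.not_mem_center_of_perfect hL (fun Q : Sylow 3 L => h.cyc3 Q.isPGroup')
      (a := a.1.1) (by rw [orderOf_coe, orderOf_coe, ha]) (mem_center_iff.2 fun g =>
        (h6 (hL.ge (mem_top g)) _ ⟨a.1, a.2, rfl⟩).symm)
  obtain ⟨w, i, j, T, hw, hw1, hi⟩ := exists_tri h2
  have e1 : j * i * j⁻¹ = i ^ 3 := by
    rw [T.ba, mul_inv_cancel_right, pow_three, ← mul_assoc, T.aa]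
  have o4 : ∀ g : SL(2, F), g * g = -1 → Nat.card (zpowers g) ∣ 4 := fun g hg => by
    rw [Nat.card_zpowers]
    exact orderOf_dvd_of_pow_eq_one (by rw [show 4 = 2 * 2 from rfl, pow_mul, sq g, hg]; simp)
  have c1 := (Core.card_sup_dvd_of_le_normalizer (zpowers_le.2 (TwoGrp.mem_normalizer_zpowers
    (e1 ▸ pow_mem (mem_zpowers i) 3)))).trans (Nat.mul_dvd_mul (o4 j T.bb) (o4 i T.aa))
  set Q := zpowers j ⊔ zpowers i
  have mi : i ∈ Q := mem_sup_right (mem_zpowers i)
  have mj : j ∈ Q := mem_sup_left (mem_zpowers j)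
  have c2 : w ∈ normalizer (Q : Set SL(2, F)) := mem_normalizer_fintype fun x hx =>
    (sup_le (zpowers_le.2 (show w * j * w⁻¹ ∈ Q by
      rw [T.tb, mul_inv_cancel_right]; exact mul_mem mi mj)) (zpowers_le.2 (show w * i * w⁻¹ ∈ Q by
      rw [T.ta, mul_inv_cancel_right]; exact mj)) : Q ≤ Q.comap (MulAut.conj w).toMonoidHom) hx
  have c3 := (Core.card_sup_dvd_of_le_normalizer (zpowers_le.2 c2)).trans (Nat.mul_dvd_mul
    ((Nat.card_zpowers w).dvd.trans (orderOf_dvd_of_pow_eq_one hw)) c1)
  obtain ⟨s, hs'⟩ := exists_section π hπ (zpowers w ⊔ Q) (Nat.Coprime.coprime_dvd_right c3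
    (((Nat.Prime.coprime_iff_not_dvd Nat.prime_three).2 h4).symm.mul_right
      ((Nat.coprime_two_right.2 hN).pow_right 4)))
  let a := s ⟨i, mem_sup_right mi⟩
  let b := s ⟨j, mem_sup_right mj⟩
  let t := s ⟨w, mem_sup_left (mem_zpowers w)⟩
  have hz : a * a * (a * a) = 1 := by
    simp only [a, ← map_mul]
    exact (congrArg s (Subtype.ext (by simp [T.aa]))).trans s.map_one
  have hz1 : a * a ≠ 1 := fun e => SL2.neg_one_ne_one h2 (by
    have := congrArg π e
    rwa [map_mul, hs', map_one, T.aa] at this)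
  have T' : Tri (a * a) t a b := by
    refine ⟨rfl, ?_, ?_, ?_, ?_⟩ <;> simp only [a, b, t, ← map_mul] <;> congr 1 <;> ext1
    · exact T.bb.trans T.aa.symm
    · exact T.ba.trans (by rw [← T.aa]; rfl)
    · exact T.ta
    · exact T.tb
  have h5 := h.cent hN hs (z := a * a) (t := t) (fun g => mul_inv_eq_iff_eq_mul.1
    (h.invol (by rw [conj_mul, hz]; simp) hz (by simpa using hz1) hz1)) hz
    (by rw [← map_pow]; exact (congrArg s (Subtype.ext hw)).trans s.map_one)
    (fun e => hw1 ((hs' _).symm.trans e)) π.ker inferInstance le_rfl a b T'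
  have h6 : centralizer (π.ker : Set L) = ⊤ := hm _ ((Comp.qs_normal ⟨⟨hp⟩,
    Classical.psl_isSimpleGroup_of_perfect hp⟩ _ (Normal.map inferInstance π hπ)).resolve_right
    fun e => hi (e ⟨a, fun d hd => (mul_inv_eq_iff_eq_mul.1 (h5 d hd)).symm, hs' _⟩))
  have hξ : IsStemExtension π :=
    ⟨hπ, fun x hx => mem_center_iff.2 fun g => (h6.ge (mem_top g) x hx).symm, hL ▸ le_top⟩
  haveI : Group.IsPerfect SL(2, F) := ⟨hp⟩
  obtain ⟨η, hη⟩ := Schur.exists_lift_of_trivial_mult (Stein.trivial_mult_SL2 (fun e => by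
    rw [e] at ho; exact absurd ho (by decide)) h9) (MonoidHom.id _) (Schur.centralExt_of_stem hξ)
  exact Schur.ker_eq_bot_of_section hξ η hη

theorem cyc_of_surj {X Y : Type*} [Group X] [Finite X] [Group Y] {r : ℕ} [Fact r.Prime]
    (h : ∀ R : Subgroup X, IsPGroup r R → IsCyclic R) (f : X →* Y) (hf : Function.Surjective f)
    {R : Subgroup Y} (hR : ∀ x ∈ R, x ^ r = 1) : Nat.card R ≤ r := by
  haveI := Finite.of_surjective f hf
  obtain ⟨P, hP⟩ := IsPGroup.exists_le_sylow (P := R) (p := r) fun x => ⟨1, Subtype.ext (by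
    simpa using hR x x.2)⟩
  obtain ⟨Q, rfl⟩ := Sylow.mapSurjective_surjective hf r P
  haveI := h Q Q.isPGroup'
  haveI : IsCyclic (Sylow.mapSurjective hf Q : Subgroup Y) :=
    isCyclic_of_surjective _ (f.subgroupMap_surjective Q)
  haveI : IsCyclic R := isCyclic_of_injective (inclusion hP) (inclusion_injective hP)
  rw [← IsCyclic.exponent_eq_card]
  exact Nat.le_of_dvd (Fact.out : r.Prime).pos
    (Monoid.exponent_dvd_of_forall_pow_eq_one fun x => Subtype.ext (hR x x.2))

theorem card_le_of_cyc {X : Type*} [Group X] [Finite X] {r : ℕ} [Fact r.Prime]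
    (h : ∀ R : Subgroup X, IsPGroup r R → IsCyclic R) {F : Type} [Field F] [Fintype F] [CharP F r]
    (f : X →* SL(2, F)) (hf : Function.Surjective f) : Fintype.card F ≤ r := by
  let φ : Multiplicative F →* SL(2, F) :=
    { toFun := fun c => SL2.uu c.toAdd
      map_one' := SL2.uu_zero
      map_mul' := fun a b => SL2.uu_add _ _ }
  have h1 := cyc_of_surj h f hf (R := φ.range) (by
    rintro _ ⟨c, rfl⟩
    rw [← map_pow, show c ^ r = 1 from Multiplicative.toAdd.injective (by simp), map_one])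
  rwa [← Nat.card_congr (φ.ofInjective fun a b e => SL2.uu_injective (F := F) e).toEquiv,
    Nat.card_eq_fintype_card, Fintype.card_multiplicative] at h1

theorem exists_S {H : Type*} [Group H] [Finite H] :
    ∃ S : Subgroup H, S.Normal ∧ ⁅S, S⁆ = S ∧ ∀ T : Subgroup H, ⁅T, T⁆ = T → T ≤ S := by
  obtain ⟨K, ⟨n, rfl⟩, hn⟩ := (wellFounded_lt (α := Subgroup H)).has_min
    (Set.range (derivedSeries H)) ⟨_, 0, rfl⟩
  refine ⟨_, inferInstance, ((derivedSeries H n).commutator_le_self.eq_or_lt).resolve_right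
    (hn _ ⟨n + 1, rfl⟩), fun T hT => ?_⟩
  clear hn
  induction n with
  | zero => exact le_top
  | succ n ih => exact hT.ge.trans (commutator_mono ih ih)

theorem exists_perfect {H : Type*} [Group H] [Finite H] {C : Subgroup H}
    (h : ¬ Group.IsSolvable C) : ∃ T ≤ C, ⁅T, T⁆ = T ∧ T ≠ ⊥ := by
  obtain ⟨T, -, h1, h2⟩ := Gag.Red2.exists_S h
  exact ⟨T.map C.subtype, map_subtype_le T, by rw [← map_commutator, h1],
    fun e => h2 ((map_eq_bot_iff_of_injective _ C.subtype_injective).1 e)⟩

theorem index_le {H : Type*} [Group H] [Finite H] {S : Subgroup H} [S.Normal]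
    (hS : ∀ T : Subgroup H, ⁅T, T⁆ = T → T ≤ S) {O : Subgroup S} [O.Characteristic]
    (hO : Group.IsSolvable O) {F : Type} [Field F] [Fintype F] (h5 : Fintype.card F = 5)
    (e : S ⧸ O ≃* SL(2, F)) : (solvableRadical H).index ≤ 120 := by
  let q := QuotientGroup.mk' (O.map S.subtype)
  have hq : Function.Surjective q := QuotientGroup.mk'_surjective _
  haveI : (S.map q).Normal := Normal.map inferInstance q hq
  have h1 : (q.subgroupMap S).ker = O := by
    ext x
    rw [MonoidHom.mem_ker, Subtype.ext_iff]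
    exact (QuotientGroup.eq_one_iff _).trans (mem_map_iff_mem S.subtype_injective)
  let e' : S.map q ≃* SL(2, F) := ((QuotientGroup.quotientKerEquivOfSurjective _
    (q.subgroupMap_surjective S)).symm.trans (QuotientGroup.quotientMulEquivOfEq h1)).trans e
  have h2 := Nat.le_of_dvd two_pos (Gag.index_dvd_two _ e' (by omega) (by rw [h5]; norm_num))
  have h3 := (Gag.card_sup_cent _ e' (by rw [h5]; decide)).2
  rw [Nat.card_congr e'.toEquiv, SL2.card_SL2, h5] at h3
  set C := centralizer (S.map q : Set (H ⧸ O.map S.subtype))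
  have h4 := C.card_mul_index
  have h6 := (S.map q ⊔ C).card_mul_index
  have h7 : 0 < Nat.card C := Nat.card_pos
  have h8 : C.index ≤ 120 := le_of_mul_le_mul_left (a := Nat.card C * 2) (by
    calc Nat.card C * 2 * C.index = Nat.card ↥(S.map q ⊔ C) * 2 * (S.map q ⊔ C).index := by
          rw [mul_right_comm, h4, ← h6, mul_right_comm]
      _ ≤ 5 * (5 ^ 2 - 1) * Nat.card C * 2 := by rw [h3]; exact Nat.mul_le_mul_left _ h2
      _ = _ := by norm_num; ring) (by omega)
  have h9 : Group.IsSolvable (C.comap q) := by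
    by_contra h
    obtain ⟨T, h10, h11, h12⟩ := exists_perfect h
    haveI := hO
    refine h12 (Comp.eq_bot_of_perfect_of_le_solvable h11 (h11.ge.trans (commutator_le.2
      fun x hx y hy => ?_)) (Group.isSolvable_of_surjective
        (f := S.subtype.subgroupMap O) (S.subtype.subgroupMap_surjective O)))
    rw [← QuotientGroup.ker_mk' (O.map S.subtype), MonoidHom.mem_ker, map_commutatorElement,
      commutatorElement_eq_one_iff_mul_comm]
    exact h10 hy _ ⟨x, hS T h11 hx, rfl⟩
  have h10 : C.comap q ≤ solvableRadical H := le_sSup ⟨inferInstance, h9⟩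
  refine (Nat.le_of_dvd (Nat.pos_of_ne_zero index_ne_zero_of_finite) (index_dvd_of_le h10)).trans ?_
  rwa [index_comap_of_surjective _ hq]

theorem not_small {H : Type u} [Group H] [Finite H] (hR : 120 < (solvableRadical H).index)
    (ρ : Representation K H V) : ¬ Small ρ := by
  intro h
  obtain ⟨S, hn, hS, hS'⟩ := exists_S (H := H)
  have h0 : S ≠ ⊥ := by
    rintro rfl
    have h1 : Group.IsSolvable (⊤ : Subgroup H) := by
      by_contra h1
      obtain ⟨T, -, h2, h3⟩ := exists_perfect h1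
      exact h3 (le_bot_iff.1 (hS' T h2))
    rw [show solvableRadical H = ⊤ from eq_top_iff.2 (le_sSup ⟨inferInstance, h1⟩), index_top] at hR
    omega
  have h' := h.comp S.subtype S.subtype_injective
  have := Core.pPrimeCore_characteristic 2 S
  have ho := Core.odd_card_oddCore S
  haveI := Fact.mk Nat.prime_three
  haveI := Fact.mk Nat.prime_five
  rcases GW.Cor.rank_one_of_perfect (GW.ih_all GW.Cor.ft) (Gag.Red2.perfect hS) (fun A _ hA => by
      by_contra h1
      haveI := Fintype.ofFinite A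
      obtain ⟨x, y, z, h2, h3, h4⟩ := (Fintype.two_lt_card_iff (α := A)).1 (by simpa using h1)
      have h5 : ∀ a b : A, a ≠ 1 → b ≠ 1 → a = b := fun a b ha hb => Subtype.ext
        (h'.invol (by rw [← sq, hA a a.2]) (by rw [← sq, hA b b.2]) (fun e => ha (Subtype.ext e))
          fun e => hb (Subtype.ext e))
      by_cases hx : x = 1
      · exact h4 (h5 y z (hx ▸ h2.symm) (hx ▸ h3.symm))
      by_cases hy : y = 1
      · exact h3 (h5 x z hx (hy ▸ h4.symm))
      · exact h2 (h5 x y hx hy))
    (Nat.not_odd_iff_even.1 fun ho => h0 (Comp.eq_bot_of_perfect_of_solvable hS (GW.Cor.ft _ ho)))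
    with ⟨F, _, _, h1, h2, ⟨e⟩⟩ | ⟨-, ⟨e⟩, -⟩
  · let π : S →* SL(2, F) := e.toMonoidHom.comp (QuotientGroup.mk' _)
    have hπ : Function.Surjective π := e.surjective.comp (QuotientGroup.mk'_surjective _)
    have hk : π.ker = pPrimeCore 2 S := (MonoidHom.ker_mulEquiv_comp _ e).trans
      (QuotientGroup.ker_mk' _)
    obtain ⟨r, _, ⟨n, hr, hn⟩⟩ := FiniteField.card' F
    haveI := Fact.mk hr
    have h3 : r ∣ Fintype.card F := hn ▸ dvd_pow_self r n.ne_zero
    by_cases h4 : r = 3
    · subst h4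
      exact absurd (card_le_of_cyc (fun _ => h'.cyc3) π hπ) (by omega)
    by_cases h5 : r = 5
    · subst h5
      have h6 := card_le_of_cyc (fun _ => h'.cyc5) π hπ
      exact absurd (index_le hS' (GW.Cor.ft _ ho) (by omega) e) (by omega)
    have h6 : r ≠ 2 := by rintro rfl; exact h1.not_two_dvd_nat h3
    have h7 : 7 ≤ r := by
      by_contra h7
      have := hr.two_le
      interval_cases r <;> first | omega | norm_num at hr
    obtain ⟨L, hL, hm⟩ := (wellFounded_lt (α := Subgroup S)).has_min {L | L.map π = ⊤}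
      ⟨⊤, map_top_of_surjective _ hπ⟩
    have h8 : Function.Surjective (π.comp L.subtype) := fun y => by
      obtain ⟨x, hx, rfl⟩ := hL.ge (mem_top y)
      exact ⟨⟨x, hx⟩, rfl⟩
    have h9 : Odd (Nat.card (π.comp L.subtype).ker) := ho.of_dvd_nat (card_dvd_of_injective
      ((L.subtype.comp (π.comp L.subtype).ker.subtype).codRestrict _ fun x => hk.le x.2)
      fun a b e => Subtype.ext (Subtype.ext (Subtype.mk.inj e)))
    have h10 := (h'.comp L.subtype L.subtype_injective).ker_bot h1 h2 (fun e => by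
      rw [e] at h3
      exact h4 ((Nat.prime_dvd_prime_iff_eq hr Nat.prime_three).1 (hr.dvd_of_dvd_pow (n := 2) h3)))
      _ h8 h9 (GW.Cor.ft _ h9) fun M hM => by
        refine map_injective L.subtype_injective ?_
        rw [← MonoidHom.range_eq_map, range_subtype]
        exact (map_subtype_le M).eq_or_lt.resolve_right (hm _ (by rwa [Set.mem_ofPred_eq, map_map]))
    let e' := MulEquiv.ofBijective _ ⟨(MonoidHom.ker_eq_bot_iff _).1 h10, h8⟩
    refine sl2 h7 _ (((h'.comp L.subtype L.subtype_injective).comp e'.symm.toMonoidHom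
      e'.symm.injective).comp (Matrix.SpecialLinearGroup.map (ZMod.castHom (dvd_refl r) F))
      fun a b e => Matrix.SpecialLinearGroup.ext _ _ fun i j => (ZMod.castHom (dvd_refl r) F).injective
        (congrArg (fun g : SL(2, F) => g i j) e))
  · obtain ⟨P⟩ : Nonempty (Sylow 3 (alternatingGroup (Fin 7))) := inferInstance
    have h1 := SmallSimple.card_sylow_eq P (a := 2) (m := 280) (by
      rw [nat_card_alternatingGroup]; simp [Nat.factorial]) (by norm_num)
    have h2 := cyc_of_surj (fun _ => h'.cyc3) ((e.toMonoidHom.comp (QuotientGroup.mk' _)).comp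
      (QuotientGroup.mk' _)) ((e.surjective.comp (QuotientGroup.mk'_surjective _)).comp
      (QuotientGroup.mk'_surjective _)) (R := (P : Subgroup _)) fun x hx => Subtype.ext
        (Gag.Red2.cube (congrArg (fun y : (P : Subgroup (alternatingGroup (Fin 7))) => y.1.1)
          (show (⟨x, hx⟩ : (P : Subgroup (alternatingGroup (Fin 7)))) ^ 9 = 1 by
            rw [show 9 = 3 ^ 2 from rfl, ← h1, pow_card_eq_one'])))
    omega

end CfsgLib.Fix6
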